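import Mathlib
import Groth.Prelude.Def_DualSh
import Groth.Agent.Lib.Helper5.SmFib.ShriekVan

/-!
# `H^i(ω_{A/R}) = 0` for `i < -d` when all fibres have local dimension `≤ d` (helper5)
-/

set_option autoImplicit false
universe u
open CategoryTheory CategoryTheory.Limits DerivedCategory AlgebraicGeometry

attribute [local instance] HasDerivedCategory.standard

namespace Groth.Agent.Lib.Helper5.S1790

theorem localDim_nonneg' {T : Type*} [TopologicalSpace T] (z : T) : 0 ≤ FlatMor.localDim T z := by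
  refine le_iInf fun U => ?_
  haveI : Nonempty (TopologicalSpace.IrreducibleCloseds ↥(U.1 : Set T)) :=
    ⟨⟨closure {⟨z, U.2⟩}, isIrreducible_singleton.closure, isClosed_closure⟩⟩
  exact Order.krullDim_nonneg

/-- a value in `[0, d]` is a natural number -/
theorem exists_nat_of_le {x : WithBot ℕ∞} (h0 : 0 ≤ x) (d : ℕ) (hd : x ≤ (d : WithBot ℕ∞)) :
    ∃ d' : ℕ, x = (d' : WithBot ℕ∞) ∧ d' ≤ d := by
  induction x using WithBot.recBotCoe with
  | bot => exact absurd h0 (by simp)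
  | coe x =>
    induction x using ENat.recTopCoe with
    | top =>
      exfalso
      have h1 : ((⊤ : ℕ∞) : WithBot ℕ∞) ≤ ((d : ℕ∞) : WithBot ℕ∞) := hd
      rw [WithBot.coe_le_coe] at h1
      exact absurd (top_le_iff.1 h1) (ENat.coe_ne_top d)
    | coe m =>
      refine ⟨m, rfl, ?_⟩
      have h1 : ((m : ℕ∞) : WithBot ℕ∞) ≤ ((d : ℕ∞) : WithBot ℕ∞) := hd
      rw [WithBot.coe_le_coe] at h1
      exact_mod_cast h1

theorem subsingleton_HD_shriek_of_lt (R A : Type u) [CommRing R] [CommRing A] [IsNoetherianRing R]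
    [IsNoetherianRing A] [Algebra R A] (n : ℕ) (ψ : MvPolynomial (Fin n) R →ₐ[R] A)
    (hψ : Function.Surjective ψ) [DRing.HasLBaseChange (algebraMap R (MvPolynomial (Fin n) R))]
    (Rψ : Dual.D (MvPolynomial (Fin n) R) ⥤ Dual.D A) (adj : DRing.restrictD ψ.toRingHom ⊣ Rψ)
    (d : ℕ)
    (hdim : ∀ q : PrimeSpectrum A, FlatMor.fibreDimAt
      (AlgebraicGeometry.Spec.map (CommRingCat.ofHom (algebraMap R A))) q ≤ (d : WithBot ℕ∞))
    (i : ℤ) (hi : i < -(d : ℤ)) :
    Subsingleton (Dual.HD A (Dual2.shriekVia n Rψ (Dual.inD R R)) i) := by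
  rw [← Module.support_eq_empty_iff (R := A)]
  by_contra hne
  obtain ⟨q, hq⟩ := Set.nonempty_iff_ne_empty.2 hne
  rw [Module.mem_support_iff] at hq
  obtain ⟨d', hd', hle⟩ := exists_nat_of_le (localDim_nonneg' _) d (hdim q)
  have := Groth.Agent.Lib.Helper5.SmFib.main_S1785 R A n ψ hψ Rψ adj q d' hd' i hq
  omega

end Groth.Agent.Lib.Helper5.S1790
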