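import Mathlib
import Groth.Prelude.Def_DualSh
import Groth.Agent.Lib.Helper5.FibReg.Quot
import Groth.Agent.Lib.Helper5.FibReg.Bridge
import Groth.Agent.Lib.Helper5.FibReg.RelPerfCrit
import Groth.Agent.Lib.Helper5.TBC.ShriekBC
import Groth.Agent.Lib.Helper5.Shriek.RAdj
import Groth.Agent.Lib.Helper3.ShrLci3
import Groth.Agent.Lib.Helper4.FibDimBC2
import Groth.Agent.Lib.Helper5.S1790.Lower

/-!
# Base change of `ω_{A/R}` to a quotient of the base: vanishing below `-d` (helper5)
-/

set_option autoImplicit false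
universe u
open CategoryTheory CategoryTheory.Limits DerivedCategory AlgebraicGeometry TensorProduct

attribute [local instance] HasDerivedCategory.standard
attribute [local instance] Algebra.TensorProduct.rightAlgebra

namespace Groth.Agent.Lib.Helper5.S1790

open Groth.Agent.Lib.Helper5.KProj Groth.Agent.Helper5.FlatAcyc Groth.Agent.Lib.Helper5.TBC
  Groth.Agent.Helper5.TorAmp Groth.Agent.Lib.Helper5.FibReg Groth.Agent.Lib.Helper5.DTenLib

/-- vanishing of the cohomology of the derived base change gives exactness of the termwise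
tensor product of a bounded above complex of flat modules -/
theorem exactAt_TM_of_lbc (A κ : Type u) [CommRing A] [CommRing κ] [Algebra A κ]
    (E : DRing.Cx A) (hflat : DRing.TermwiseFlat E) (b : ℤ) (hb : DRing.VanishesAbove E b) (i : ℤ)
    (h : Subsingleton (Dual.HD κ
      ((DRing.LBaseChange (algebraMap A κ)).obj (DRing.toD E)) i)) :
    ((TM (ModuleCat.of A κ)).obj E).ExactAt i := by
  obtain ⟨P', p, hp, hproj, hP'b, hK⟩ := exists_resolution E b hb
  haveI := hK
  haveI : IsIso (Q.map p) := by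
    rw [DerivedCategory.isIso_Q_map_iff_quasiIso]
    exact hp
  have h6 : Subsingleton (Dual.HD κ (DRing.toD ((bcCx (algebraMap A κ)).obj P')) i) :=
    subsingleton_HD_of_iso ((DRing.LBaseChange (algebraMap A κ)).mapIso (asIso (Q.map p)).symm ≪≫
      lbcIso (algebraMap A κ) P') i h
  have h4 : ((bcCx (algebraMap A κ)).obj P').ExactAt i := (exactAt_iff_subsingleton_HD _ i).2 h6
  let W := ((ModuleCat.extendScalars (algebraMap A κ) ⋙
    ModuleCat.restrictScalars (algebraMap A κ)).mapHomologicalComplex (ComplexShape.up ℤ)).obj P'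
  have eW : W ≅ (TM (ModuleCat.of A κ)).obj P' :=
    (NatIso.mapHomologicalComplex (extResOf A κ) (ComplexShape.up ℤ)).app P'
  have h3 : W.ExactAt i := by
    have h5 : ((((bcCx (algebraMap A κ)).obj P').sc i).map
        (ModuleCat.restrictScalars (algebraMap A κ))).Exact :=
      (ShortComplex.exact_map_iff_of_faithful _
        (ModuleCat.restrictScalars (algebraMap A κ))).2 h4
    exact h5
  have h2 : ((TM (ModuleCat.of A κ)).obj P').ExactAt i := by
    rw [HomologicalComplex.exactAt_iff_isZero_homology] at h3 ⊢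
    exact h3.of_iso ((HomologicalComplex.homologyFunctor _ _ i).mapIso eW.symm)
  have hP'flat := termwiseFlat_of_projective P' hproj
  have hq := quasiIso_tensor p hp hP'flat hflat b hP'b hb (ModuleCat.of A κ)
  rw [HomologicalComplex.exactAt_iff_isZero_homology] at h2 ⊢
  haveI := hq
  exact h2.of_iso (asIso (HomologicalComplex.homologyMap ((TM (ModuleCat.of A κ)).map p) i)).symm

section Quot

variable (R A : Type u) [CommRing R] [CommRing A] [IsNoetherianRing R]
  [IsNoetherianRing A] [Algebra R A] [Module.Flat R A]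

/-- fibre dimensions after base change to a quotient of the base -/
theorem fibreDimAt_quot_le [Algebra.FiniteType R A] (d : ℕ)
    (hdim : ∀ q : PrimeSpectrum A, FlatMor.fibreDimAt
      (AlgebraicGeometry.Spec.map (CommRingCat.ofHom (algebraMap R A))) q ≤ (d : WithBot ℕ∞))
    (R' : Type u) [CommRing R'] [Algebra R R'] (q' : PrimeSpectrum (R' ⊗[R] A)) :
    FlatMor.fibreDimAt
      (AlgebraicGeometry.Spec.map (CommRingCat.ofHom (algebraMap R' (R' ⊗[R] A)))) q' ≤
        (d : WithBot ℕ∞) := by
  haveI : LocallyOfFiniteType (Spec.map (CommRingCat.ofHom (algebraMap R A))) := by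
    rw [HasRingHomProperty.Spec_iff (P := @LocallyOfFiniteType)]
    exact (RingHom.finiteType_algebraMap (A := R) (B := A)).2 inferInstance
  have hsq := (isPullback_SpecMap_of_isPushout _ _ _ _
    (CommRingCat.isPushout_tensorProduct R R' A)).flip
  have := Groth.Agent.Lib.Helper4.FibDimBC2.fibreDimAt_abs _ _ _ _ hsq q'
  have h2 : FlatMor.fibreDimAt
      (AlgebraicGeometry.Spec.map (CommRingCat.ofHom (algebraMap R' (R' ⊗[R] A)))) q' =
      FlatMor.fibreDimAt (Spec.map (CommRingCat.ofHom
        (Algebra.TensorProduct.includeLeftRingHom : R' →+* R' ⊗[R] A))) q' := rfl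
  rw [h2, this]
  exact hdim _

theorem subsingleton_HD_lbc_quot (n : ℕ) (ψ : MvPolynomial (Fin n) R →ₐ[R] A)
    (hψ : Function.Surjective ψ)
    (Rψ : Dual.D (MvPolynomial (Fin n) R) ⥤ Dual.D A) (adj : DRing.restrictD ψ.toRingHom ⊣ Rψ)
    (d : ℕ)
    (hdim : ∀ q : PrimeSpectrum A, FlatMor.fibreDimAt
      (AlgebraicGeometry.Spec.map (CommRingCat.ofHom (algebraMap R A))) q ≤ (d : WithBot ℕ∞))
    (I : Ideal R) (i : ℤ) (hi : i < -(d : ℤ)) :
    Subsingleton (Dual.HD (R ⧸ I) ((DRing.LBaseChange (algebraMap R (R ⧸ I))).obj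
      ((DRing.restrictD (algebraMap R A)).obj (Dual2.shriekVia n Rψ (Dual.inD R R)))) i) := by
  haveI : Algebra.FiniteType R A := Algebra.FiniteType.of_surjective ψ hψ
  let R' := R ⧸ I
  let A' := R' ⊗[R] A
  haveI : Algebra.FiniteType R' A' := inferInstance
  haveI : IsNoetherianRing A' := Algebra.FiniteType.isNoetherianRing R' A'
  obtain ⟨m, ψ', hψ'⟩ := Algebra.FiniteType.iff_quotient_mvPolynomial''.1
    (inferInstance : Algebra.FiniteType R' A')
  let Rψ' := _root_.Helper5.Shriek.RCoext ψ'.toRingHom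
  let adj' := _root_.Helper5.Shriek.rAdj ψ'.toRingHom
  let ω := Dual2.shriekVia n Rψ (Dual.inD R R)
  obtain ⟨e1⟩ := _root_.Helper5.Shriek.shriek_flat_ft_bc R R' A n ψ hψ Rψ adj m ψ' hψ' Rψ' adj'
    (Dual.inD R R)
  let e2 : Dual2.shriekVia m Rψ' ((DRing.LBaseChange (algebraMap R R')).obj (Dual.inD R R)) ≅
      Dual2.shriekVia m Rψ' (Dual.inD R' R') :=
    (shiftFunctor (Dual.D A') (m : ℤ)).mapIso (Rψ'.mapIso
      ((DRing.LBaseChange (algebraMap R' (MvPolynomial (Fin m) R'))).mapIso
        (Groth.Agent.Helper3.ShrLci.lbcRing (algebraMap R R'))))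
  obtain ⟨e3⟩ := nonempty_pushoutIso_left R A R' A' ω
  have hdim' := fibreDimAt_quot_le R A d hdim R'
  have h5 := subsingleton_HD_shriek_of_lt R' A' m ψ' hψ' Rψ' adj' d hdim' i hi
  have h6 : Subsingleton (Dual.HD A' ((DRing.LBaseChange (algebraMap A A')).obj ω) i) :=
    subsingleton_HD_of_iso (e1 ≪≫ e2).symm i h5
  have h7 : Subsingleton (Dual.HD R' ((DRing.restrictD (algebraMap R' A')).obj
      ((DRing.LBaseChange (algebraMap A A')).obj ω)) i) :=
    (subsingleton_HD_restrictD_iff (algebraMap R' A') _ i).2 h6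
  exact subsingleton_HD_of_iso e3.symm i h7

end Quot

end Groth.Agent.Lib.Helper5.S1790
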