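import Mathlib
import Groth.Prelude.Def_DualSh
import Groth.Agent.Lib.Helper3.RelDual1
import Groth.Agent.Lib.Helper3.ShrLci3
import Groth.Agent.Lib.Helper5.Gen.PerfFlat
import Groth.Agent.Lib.Helper5.DMod.DCRestrict
import Groth.Agent.Lib.Helper5.KProj.LTen

/-!
# `H^i(ω_{A/R}) = 0` for `i > 0` when `A` is flat over `R` (helper5)
-/

set_option autoImplicit false
universe u
open CategoryTheory CategoryTheory.Limits DerivedCategory

attribute [local instance] HasDerivedCategory.standard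

namespace Groth.Agent.Lib.Helper5.S1790

open Groth.Agent.Helper5.TorAmp Groth.Agent.Helper5.PolyTor Groth.Agent.Helper5.PerfHom
  Groth.Agent.Helper3.RelDual _root_.Helper5.RHomK Groth.Agent.Lib.Helper5.KProj

/-- `RHom(E, A)` of a complex represented by finite projectives in `[a, b]` is represented by
finite projectives in `[-b, -a]` -/
theorem rhom_dual_amp {A : Type u} [CommRing A] (K : Dual.D A) (F : DRing.Cx A) (a b : ℤ)
    (hab : DRing.VanishesOutside F a b) (hF : DRing.TermwiseFiniteProjective F)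
    (eF : DRing.toD F ≅ K) (E : DRing.Cx A) (eK : DRing.toD E ≅ K) [DRing.HasRHomCx E] :
    ∃ G : DRing.Cx A, DRing.VanishesOutside G (-b) (-a) ∧ DRing.TermwiseFiniteProjective G ∧
      Nonempty ((DRing.RHomCx E).obj (Dual.inD A A) ≅ DRing.toD G) := by
  haveI : F.IsKProjective := Groth.Agent.Lib.Helper5.HomCx.isKProjective_of_vanishesAbove F b
    (fun i hi => hab i (Or.inr hi)) (fun i => (hF i).2)
  obtain ⟨e1⟩ := nonempty_rhom_iso_of_kproj E F (eF ≪≫ eK.symm) (UA A)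
  exact ⟨dualCx F, vanishesOutside_dualCx F a b hab, termwiseFiniteProjective_dualCx F hF,
    ⟨(DRing.RHomCx E).mapIso (inDIso A) ≪≫ e1 ≪≫ DerivedCategory.Q.mapIso (homCxUAIso F)⟩⟩

/-- the cohomology of `Rψ(P)` vanishes above `n` -/
theorem subsingleton_HD_R_of_gt (R A : Type u) [CommRing R] [CommRing A] [IsNoetherianRing R]
    [Algebra R A] [Module.Flat R A] (n : ℕ)
    (ψ : MvPolynomial (Fin n) R →ₐ[R] A) (hψ : Function.Surjective ψ)
    (Rψ : Dual.D (MvPolynomial (Fin n) R) ⥤ Dual.D A) (adj : DRing.restrictD ψ.toRingHom ⊣ Rψ)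
    (j : ℤ) (hj : (n : ℤ) < j) :
    Subsingleton (Dual.HD A (Rψ.obj (Dual.inD (MvPolynomial (Fin n) R) (MvPolynomial (Fin n) R))) j) := by
  letI := ψ.toRingHom.toAlgebra
  haveI : Module.Finite (MvPolynomial (Fin n) R) A :=
    Module.Finite.of_surjective (Algebra.linearMap (MvPolynomial (Fin n) R) A) hψ
  have hpc : DRing.IsPseudoCoherent' (MvPolynomial (Fin n) R)
      (Dual.inD (MvPolynomial (Fin n) R) A) :=
    Groth.Agent.Helper3.FinCoh.pseudoCoherent_inD (A := MvPolynomial (Fin n) R) A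
  haveI : Module.Flat R (ModuleCat.of R A) := inferInstanceAs (Module.Flat R A)
  have h1 : DRing.HasTorAmplitudeIn R (-((0 : ℕ) : ℤ)) 0 (Dual.inD R A) := by
    simpa using hasTorAmplitudeIn_single_of_flat (ModuleCat.of R A)
  have h2 := torAmp_mv n R 0 (ModuleCat.of (MvPolynomial (Fin n) R) A)
    (hasTorAmplitudeIn_of_iso (resIso ψ).symm h1)
  obtain ⟨F, hFv, hFp, ⟨eF⟩⟩ := perfAmp_of_pc' hpc h2
  let eK : Dual.inD (MvPolynomial (Fin n) R) A ≅
      (DRing.restrictD ψ.toRingHom).obj (Dual.inD A A) :=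
    (DerivedCategory.singleFunctor _ 0).mapIso
      (Groth.Agent.Helper5.PCHom.algEquiv (B := MvPolynomial (Fin n) R) (C := A)).toModuleIso.symm ≪≫
    (Groth.Agent.Helper5.PCHom.restrictDSingle (algebraMap (MvPolynomial (Fin n) R) A)
      (ModuleCat.of A A)).symm
  haveI := _root_.Helper5.RHomE.hasRHomCx (SA ψ.toRingHom)
  obtain ⟨e⟩ := nonempty_res_R_iso ψ.toRingHom Rψ adj
    (Dual.inD (MvPolynomial (Fin n) R) (MvPolynomial (Fin n) R))
  obtain ⟨G, hGv, -, ⟨eG⟩⟩ := rhom_dual_amp ((DRing.restrictD ψ.toRingHom).obj (Dual.inD A A)) F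
    (-((0 + n : ℕ) : ℤ)) 0 hFv hFp (eF ≪≫ eK) (SA ψ.toRingHom) (saIso ψ.toRingHom)
  have h3 : Subsingleton (Dual.HD (MvPolynomial (Fin n) R) (DRing.toD G) j) := by
    rw [← exactAt_iff_subsingleton_HD]
    exact HomologicalComplex.ExactAt.of_isZero (hGv j (Or.inr (by push_cast; omega)))
  have h4 : Subsingleton (Dual.HD (MvPolynomial (Fin n) R) ((DRing.restrictD ψ.toRingHom).obj
      (Rψ.obj (Dual.inD (MvPolynomial (Fin n) R) (MvPolynomial (Fin n) R)))) j) :=
    subsingleton_HD_of_iso (e ≪≫ eG).symm j h3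
  exact (_root_.Helper5.DMod.HDrestrictEquiv ψ.toRingHom _ j).symm.toEquiv.subsingleton

/-- `H^i(ω_{A/R}) = 0` for `i > 0` -/
theorem subsingleton_HD_shriek_of_pos (R A : Type u) [CommRing R] [CommRing A] [IsNoetherianRing R]
    [Algebra R A] [Module.Flat R A] (n : ℕ)
    (ψ : MvPolynomial (Fin n) R →ₐ[R] A) (hψ : Function.Surjective ψ)
    [DRing.HasLBaseChange (algebraMap R (MvPolynomial (Fin n) R))]
    (Rψ : Dual.D (MvPolynomial (Fin n) R) ⥤ Dual.D A) (adj : DRing.restrictD ψ.toRingHom ⊣ Rψ)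
    (i : ℤ) (hi : 0 < i) :
    Subsingleton (Dual.HD A (Dual2.shriekVia n Rψ (Dual.inD R R)) i) := by
  let P := MvPolynomial (Fin n) R
  let N : Dual.D P := (DRing.LBaseChange (algebraMap R P)).obj (Dual.inD R R)
  let eN : N ≅ Dual.inD P P := Groth.Agent.Helper3.ShrLci.lbcRing _
  have h1 := subsingleton_HD_R_of_gt R A n ψ hψ Rψ adj ((n : ℤ) + i) (by omega)
  have h2 : Subsingleton (Dual.HD A (Rψ.obj N) ((n : ℤ) + i)) :=
    subsingleton_HD_of_iso (Rψ.mapIso eN.symm) _ h1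
  let hsh : Dual.HD A (Rψ.obj N) ((n : ℤ) + i) ≃ₗ[A]
      Dual.HD A (Dual2.shriekVia n Rψ (Dual.inD R R)) i :=
    (((DerivedCategory.homologyFunctor (ModuleCat.{u} A) 0).shiftIso (n : ℤ) i ((n : ℤ) + i)
      rfl).app (Rψ.obj N)).symm.toLinearEquiv
  exact hsh.symm.toEquiv.subsingleton

end Groth.Agent.Lib.Helper5.S1790
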