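import Mathlib
import Groth.Prelude.Def_DualSh
import Groth.Agent.Lib.Helper3.RelDual2
import Groth.Agent.Lib.Helper5.S1790.Upper
import Groth.Agent.Lib.Helper5.S1790.BC
import Groth.Agent.Lib.Helper5.FibReg.Open
import Groth.Agent.Lib.Helper5.TorAmp.TorDim

/-!
# `ω_{A/R}` for a flat map of finite type: range of the cohomology and tor amplitude (helper5)
-/

set_option autoImplicit false
universe u
open CategoryTheory CategoryTheory.Limits DerivedCategory AlgebraicGeometry TensorProduct

attribute [local instance] HasDerivedCategory.standard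

namespace Groth.Agent.Lib.Helper5.S1790

open Groth.Agent.Lib.Helper5.KProj Groth.Agent.Helper5.FlatAcyc Groth.Agent.Lib.Helper5.TBC
  Groth.Agent.Helper5.TorAmp Groth.Agent.Lib.Helper5.FibReg Groth.Agent.Lib.Helper5.DTenLib

theorem main_S1790 (R A : Type u) [CommRing R] [CommRing A] [IsNoetherianRing R]
    [IsNoetherianRing A] [Algebra R A] (n : ℕ) (ψ : MvPolynomial (Fin n) R →ₐ[R] A)
    (hψ : Function.Surjective ψ) [DRing.HasLBaseChange (algebraMap R (MvPolynomial (Fin n) R))]
    (Rψ : Dual.D (MvPolynomial (Fin n) R) ⥤ Dual.D A) (adj : DRing.restrictD ψ.toRingHom ⊣ Rψ)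
    [Module.Flat R A] (d : ℕ) :
    (∀ (q : PrimeSpectrum A), FlatMor.fibreDimAt
        (AlgebraicGeometry.Spec.map (CommRingCat.ofHom (algebraMap R A))) q = d → ∀ i : ℤ,
        Nontrivial (LocalizedModule q.asIdeal.primeCompl
          (Dual.HD A (Dual2.shriekVia n Rψ (Dual.inD R R)) i)) → -(d : ℤ) ≤ i ∧ i ≤ 0) ∧
    ((∀ q : PrimeSpectrum A, FlatMor.fibreDimAt
        (AlgebraicGeometry.Spec.map (CommRingCat.ofHom (algebraMap R A))) q ≤ (d : WithBot ℕ∞)) →
      DRing.HasTorAmplitudeIn R (-(d : ℤ)) 0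
        ((DRing.restrictD (algebraMap R A)).obj (Dual2.shriekVia n Rψ (Dual.inD R R)))) := by
  refine ⟨?_, ?_⟩
  · intro q hq i hnt
    refine ⟨Groth.Agent.Lib.Helper5.SmFib.main_S1785 R A n ψ hψ Rψ adj q d hq i hnt, ?_⟩
    by_contra hpos
    push Not at hpos
    haveI := subsingleton_HD_shriek_of_pos R A n ψ hψ Rψ adj i hpos
    exact not_subsingleton _ (inferInstance : Subsingleton (LocalizedModule q.asIdeal.primeCompl
      (Dual.HD A (Dual2.shriekVia n Rψ (Dual.inD R R)) i)))
  · intro hdim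
    obtain ⟨a, b, E, hEv, hEf, ⟨eE⟩⟩ :=
      (Groth.Agent.Helper3.RelDual.relPerfect_omega R A n ψ hψ Rψ adj).2
    have hb : DRing.VanishesAbove E b := fun i hi => hEv i (Or.inr hi)
    have hex : ∀ i : ℤ, i < -(d : ℤ) → E.ExactAt i := by
      intro i hi
      rw [exactAt_iff_subsingleton_HD]
      have h1 := subsingleton_HD_shriek_of_lt R A n ψ hψ Rψ adj d hdim i hi
      have h2 := (subsingleton_HD_restrictD_iff (algebraMap R A)
        (Dual2.shriekVia n Rψ (Dual.inD R R)) i).2 h1
      exact subsingleton_HD_of_iso eE.symm i h2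
    have hT : ∀ I : Ideal R, ((TM (ModuleCat.of R (R ⧸ I))).obj E).ExactAt (-(d : ℤ) - 1) := by
      intro I
      apply exactAt_TM_of_lbc R (R ⧸ I) E hEf b hb
      have h3 := subsingleton_HD_lbc_quot R A n ψ hψ Rψ adj d hdim I (-(d : ℤ) - 1) (by omega)
      exact subsingleton_HD_of_iso ((DRing.LBaseChange (algebraMap R (R ⧸ I))).mapIso eE.symm) _ h3
    have hop : Module.Flat R (E.opcycles (-(d : ℤ))) :=
      flat_opcycles E hEf (-(d : ℤ)) (hex _ (by omega)) hT
    have h1 : DRing.HasTorAmplitudeIn R (-(d : ℤ)) b (DRing.toD E) :=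
      hasTorAmplitudeIn_of_flat_opcycles E hEf hb hex hop
    have h2 := hasTorAmplitudeIn_of_iso eE h1
    haveI : ((DRing.restrictD (algebraMap R A)).obj
        (Dual2.shriekVia n Rψ (Dual.inD R R))).IsLE 0 := by
      rw [DerivedCategory.isLE_iff]
      intro i hi
      have h4 := subsingleton_HD_shriek_of_pos R A n ψ hψ Rψ adj i hi
      have h5 := (subsingleton_HD_restrictD_iff (algebraMap R A)
        (Dual2.shriekVia n Rψ (Dual.inD R R)) i).2 h4
      exact @ModuleCat.isZero_of_subsingleton _ _ _ h5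
    exact hasTorAmplitudeIn_trim h2

end Groth.Agent.Lib.Helper5.S1790
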